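import Mathlib.AlgebraicGeometry.AffineTransitionLimit
import Mathlib.AlgebraicGeometry.Morphisms.ClosedImmersion
import Mathlib.AlgebraicGeometry.Morphisms.FiniteType
import Mathlib.CategoryTheory.Limits.Shapes.Pullback.Pasting

/-!
# Morphisms of limit systems which are closed immersions in the limit
-/

set_option autoImplicit false
set_option backward.isDefEq.respectTransparency false
set_option linter.style.haveILetI false

universe u

open CategoryTheory CategoryTheory.Limits AlgebraicGeometry

namespace Groth.Agent.LimClosed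

/-- A ring map hits everything on a pushout of rings as soon as it hits the two factors. -/
theorem mem_of_isPushout {R A B P : CommRingCat.{u}} {f : R ⟶ A} {g : R ⟶ B} {fst : A ⟶ P} {snd : B ⟶ P}
    (h : IsPushout f g fst snd) (T : Subring P) (hA : ∀ a, fst a ∈ T) (hB : ∀ b, snd b ∈ T) (p : P) : p ∈ T := by
  let a : A ⟶ CommRingCat.of T := CommRingCat.ofHom (fst.hom.codRestrict T hA)
  let b : B ⟶ CommRingCat.of T := CommRingCat.ofHom (snd.hom.codRestrict T hB)
  let ι : CommRingCat.of T ⟶ P := CommRingCat.ofHom T.subtype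
  have w : f ≫ a = g ≫ b := by
    ext r
    exact congrArg (fun k => k r) h.w
  have e : h.desc a b w ≫ ι = 𝟙 P := by
    apply h.hom_ext
    · rw [IsPushout.inl_desc_assoc]; rfl
    · rw [IsPushout.inr_desc_assoc]; rfl
  have h2 : (h.desc a b w p).1 = p := congrArg (fun k => k p) e
  exact h2 ▸ (h.desc a b w p).2

variable {J : Type u} [SmallCategory J] {W V : J ⥤ Scheme.{u}} (g : W ⟶ V)

/-- The comparison map of a stage with the base change of an earlier stage. -/
noncomputable def comparison {j k : J} (η : j ⟶ k) : W.obj j ⟶ pullback (g.app k) (V.map η) :=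
  pullback.lift (W.map η) (g.app j) (g.naturality η)

omit [SmallCategory J] in
theorem finiteType_generators {A B : CommRingCat.{u}} (f : A ⟶ B) (h : f.hom.FiniteType) :
    ∃ s : Finset B, ∀ T : Subring B, (∀ a, f a ∈ T) → (∀ x ∈ s, x ∈ T) → ∀ x, x ∈ T := by
  letI := f.hom.toAlgebra
  have : Algebra.FiniteType A B := h
  obtain ⟨s, hs⟩ := this.out
  refine ⟨s, fun T hA hs' x => ?_⟩
  let T' : Subalgebra A B := { T with algebraMap_mem' := hA }
  have : Algebra.adjoin A (↑s : Set B) ≤ T' := Algebra.adjoin_le fun y hy => hs' y hy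
  exact this (hs.ge Algebra.mem_top)

/-- A comparison map with an affine stage is a closed immersion if one with an earlier stage is. -/
theorem isClosedImmersion_comparison [∀ j, IsAffine (V.obj j)] {i j k : J} (η : i ⟶ j) (φ : j ⟶ k)
    [IsAffine (W.obj j)] [IsClosedImmersion (comparison g (η ≫ φ))] : IsClosedImmersion (comparison g η) := by
  let M : pullback (g.app j) (V.map η) ⟶ pullback (g.app k) (V.map (η ≫ φ)) :=
    pullback.map _ _ _ _ (W.map φ) (𝟙 _) (V.map φ) (g.naturality φ).symm (by simp)
  have hM : comparison g η ≫ M = comparison g (η ≫ φ) := by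
    apply pullback.hom_ext <;> simp [comparison, M]
  have : IsAffine (pullback (g.app j) (V.map η)) := inferInstance
  have : IsClosedImmersion (comparison g η ≫ M) := hM ▸ inferInstance
  exact IsClosedImmersion.of_comp (comparison g η) M

variable [IsCofiltered J] {cW : Cone W} {cV : Cone V} (hW : IsLimit cW) (hV : IsLimit cV) (gl : cW.pt ⟶ cV.pt)
  [∀ {i j : J} (f : i ⟶ j), IsAffineHom (W.map f)] [∀ {i j : J} (f : i ⟶ j), IsAffineHom (V.map f)]
  [∀ j, IsAffine (V.obj j)] [∀ j, CompactSpace (W.obj j)] [∀ j, QuasiSeparatedSpace (W.obj j)]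

include hW hV in
/-- A morphism of systems which is a closed immersion in the limit is eventually a closed immersion, if each
stage is a closed subscheme of the base change of the first stage, this being of finite type. -/
theorem eventually_isClosedImmersion (comm : ∀ j, cW.π.app j ≫ g.app j = gl ≫ cV.π.app j) (j₀ : J)
    [LocallyOfFiniteType (g.app j₀)]
    (hgen : ∀ (j : J) (φ : j ⟶ j₀), IsClosedImmersion (comparison g φ)) [IsClosedImmersion gl] :
    ∃ (k : J) (_ : k ⟶ j₀), ∀ (i : J) (_ : i ⟶ k), IsClosedImmersion (g.app i) := by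
  have : IsAffine cV.pt := Scheme.isAffine_of_isLimit cV hV
  have : IsAffine cW.pt := isAffine_of_isAffineHom gl
  obtain ⟨i₁, hi₁⟩ := Scheme.exists_isAffine_of_isLimit W cW hW
  obtain ⟨j₁, u₁, φ₁, -⟩ := IsCofilteredOrEmpty.cone_objs i₁ j₀
  have hj₁ : IsAffine (W.obj j₁) := isAffine_of_isAffineHom (W.map u₁)
  have hgen₁ : ∀ (j : J) (η : j ⟶ j₁), IsClosedImmersion (comparison g η) := fun j η =>
    haveI := hgen j (η ≫ φ₁)
    isClosedImmersion_comparison g η φ₁
  have hlft : LocallyOfFiniteType (g.app j₁) := by
    have := hgen j₁ φ₁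
    rw [show g.app j₁ = comparison g φ₁ ≫ pullback.snd _ _ from (pullback.lift_snd _ _ _).symm]
    infer_instance
  obtain ⟨s, hs⟩ := finiteType_generators ((g.app j₁).appTop)
    ((HasRingHomProperty.iff_of_isAffine (P := @LocallyOfFiniteType)).1 hlft)
  -- each generator is eventually in the range
  have hone : ∀ a : Γ(W.obj j₁, ⊤), ∃ k : Over j₁, ∀ k' : Over j₁, (k' ⟶ k) →
      (W.map k'.hom).appTop a ∈ ((g.app k'.left).appTop).hom.range := by
    intro a
    obtain ⟨b, hb⟩ := (IsClosedImmersion.isAffine_surjective_of_isAffine gl).2 ((cW.π.app j₁).appTop a)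
    obtain ⟨i, b', rfl⟩ := exists_appTop_π_eq_of_isLimit V cV hV b
    obtain ⟨m, p, q, -⟩ := IsCofilteredOrEmpty.cone_objs j₁ i
    let d := (W.map p).appTop a - (g.app m).appTop ((V.map q).appTop b')
    have hd : (cW.π.app m).appTop d = 0 := by
      rw [map_sub, sub_eq_zero, ← CommRingCat.comp_apply, ← Scheme.Hom.comp_appTop, cW.w]
      refine hb.symm.trans ?_
      have e : gl ≫ cV.π.app i = cW.π.app m ≫ g.app m ≫ V.map q := by rw [reassoc_of% comm, cV.w]
      exact congrArg (fun k => k.appTop b') e
    obtain ⟨n, r, hr⟩ := exists_appTop_map_eq_zero_of_isLimit W cW hW d hd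
    refine ⟨Over.mk (r ≫ p), fun k' v => ?_⟩
    refine ⟨(V.map (v.left ≫ r ≫ q)).appTop b', ?_⟩
    have h0 : (W.map v.left).appTop ((W.map r).appTop d) = 0 := by rw [hr, map_zero]
    rw [map_sub, map_sub, sub_eq_zero] at h0
    have hk : k'.hom = v.left ≫ r ≫ p := (Over.w v).symm
    have key : ∀ (x : Γ(V.obj i, ⊤)), (g.app k'.left).appTop ((V.map (v.left ≫ r ≫ q)).appTop x) =
        (W.map v.left).appTop ((W.map r).appTop ((g.app m).appTop ((V.map q).appTop x))) := fun x => by
      simp only [← CommRingCat.comp_apply, ← Scheme.Hom.comp_appTop]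
      rw [V.map_comp, V.map_comp, ← g.naturality_assoc, ← g.naturality_assoc]
      rfl
    show (g.app k'.left).appTop _ = _
    rw [key, ← h0, hk]
    simp only [← CommRingCat.comp_apply, ← Scheme.Hom.comp_appTop, Functor.map_comp]
    rfl
  choose st hst using hone
  classical
  obtain ⟨k, hk⟩ := IsCofiltered.inf_objs_exists (s.image st)
  refine ⟨k.left, k.hom ≫ φ₁, fun i η => ?_⟩
  have hmain : IsClosedImmersion (g.app k.left) := by
    have : IsAffine (W.obj k.left) := isAffine_of_isAffineHom (W.map k.hom)
    refine IsClosedImmersion.of_surjective_of_isAffine (g.app k.left) fun x => ?_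
    have := hgen₁ k.left k.hom
    obtain ⟨p, rfl⟩ := (IsClosedImmersion.isAffine_surjective_of_isAffine (comparison g k.hom)).2 x
    let T := ((g.app k.left).appTop).hom.range.comap (comparison g k.hom).appTop.hom
    refine (mem_of_isPushout (isPushout_appTop_of_isPullback (IsPullback.of_hasPullback (g.app j₁) (V.map k.hom)))
      T (fun a => ?_) (fun b => ?_) p : p ∈ T)
    · refine Subring.mem_comap.2 ?_
      show (comparison g k.hom).appTop ((pullback.fst (g.app j₁) (V.map k.hom)).appTop a) ∈ _
      rw [← CommRingCat.comp_apply, ← Scheme.Hom.comp_appTop, comparison, pullback.lift_fst]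
      refine hs (((g.app k.left).appTop).hom.range.comap (W.map k.hom).appTop.hom) (fun b => ?_) (fun y hy => ?_) a
      · refine ⟨(V.map k.hom).appTop b, ?_⟩
        simp only [← CommRingCat.comp_apply, ← Scheme.Hom.comp_appTop, g.naturality]
      · exact hst y k (hk (Finset.mem_image_of_mem st hy)).some
    · refine Subring.mem_comap.2 ?_
      show (comparison g k.hom).appTop ((pullback.snd (g.app j₁) (V.map k.hom)).appTop b) ∈ _
      rw [← CommRingCat.comp_apply, ← Scheme.Hom.comp_appTop, comparison, pullback.lift_snd]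
      exact ⟨b, rfl⟩
  have : IsAffine (W.obj k.left) := isAffine_of_isAffineHom (W.map k.hom)
  have := hgen₁ i (η ≫ k.hom)
  have := isClosedImmersion_comparison g η k.hom
  rw [show g.app i = comparison g η ≫ pullback.snd _ _ from (pullback.lift_snd _ _ _).symm]
  infer_instance

end Groth.Agent.LimClosed
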